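import Groth.Agent.S0549
import Mathlib

/-!
# Sections through a smooth rational point of the special fibre
-/

set_option autoImplicit false
set_option backward.isDefEq.respectTransparency false

universe u

open IsLocalRing

noncomputable section

namespace Groth.Agent.QuasiSec

variable {B A : Type u} [CommRing B] [IsLocalRing B] [IsNoetherianRing B] [CommRing A] [Algebra B A]

theorem le_pow {m n : ℕ} (h : m ≤ n) : maximalIdeal B ^ (n + 1) ≤ maximalIdeal B ^ (m + 1) :=
  Ideal.pow_le_pow_right (Nat.succ_le_succ h)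

/-- Lifts of a point of a formally smooth algebra to the infinitesimal neighbourhoods. -/
def lev [Algebra.FormallySmooth B A] (φ₀ : A →ₐ[B] B ⧸ maximalIdeal B) :
    (n : ℕ) → A →ₐ[B] B ⧸ maximalIdeal B ^ (n + 1)
  | 0 => (Ideal.quotientEquivAlgOfEq B (pow_one (maximalIdeal B)).symm).toAlgHom.comp φ₀
  | n + 1 => Algebra.FormallySmooth.liftOfSurjective (lev φ₀ n)
      (Ideal.Quotient.factorₐ B (le_pow (B := B) n.le_succ))
      (Ideal.Quotient.factor_surjective (le_pow (B := B) n.le_succ)) (by
        refine ⟨n + 2, (Submodule.eq_bot_iff _).2 fun x hx => ?_⟩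
        have hle : RingHom.ker (Ideal.Quotient.factorₐ B (le_pow (B := B) n.le_succ)) ≤
            (maximalIdeal B).map (Ideal.Quotient.mk (maximalIdeal B ^ (n + 2))) := by
          intro y hy
          obtain ⟨y, rfl⟩ := Ideal.Quotient.mk_surjective y
          exact Ideal.mem_map_of_mem _ (Ideal.pow_le_self n.succ_ne_zero (Ideal.Quotient.eq_zero_iff_mem.1 hy))
        have h := Ideal.pow_right_mono hle (n + 2) hx
        rwa [← Ideal.map_pow, Ideal.map_quotient_self] at h)

theorem factor_lev [Algebra.FormallySmooth B A] (φ₀ : A →ₐ[B] B ⧸ maximalIdeal B) (n : ℕ) (x : A) :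
    Ideal.Quotient.factorₐ B (le_pow (B := B) n.le_succ) (lev φ₀ (n + 1) x) = lev φ₀ n x := by
  rw [lev]
  exact Algebra.FormallySmooth.liftOfSurjective_apply (lev φ₀ n)
    (Ideal.Quotient.factorₐ B (le_pow (B := B) n.le_succ)) _ _ x

theorem exists_section [Algebra.FormallySmooth B A] (φ₀ : A →ₐ[B] B ⧸ maximalIdeal B) :
    ∃ ψ : A →ₐ[B] AdicCompletion (maximalIdeal B) B,
      ∀ a, AdicCompletion.evalOneₐ (maximalIdeal B) (ψ a) = φ₀ a := by
  let f : (n : ℕ) → A →ₐ[B] B ⧸ maximalIdeal B ^ n := fun n =>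
    (Ideal.Quotient.factorₐ B (Ideal.pow_le_pow_right n.le_succ)).comp (lev φ₀ n)
  have step : ∀ {m n : ℕ} (h : m ≤ n) (x : A),
      Ideal.Quotient.factor (le_pow (B := B) h) (lev φ₀ n x) = lev φ₀ m x := by
    intro m n h
    induction n, h using Nat.le_induction with
    | base => intro x; obtain ⟨y, hy⟩ := Ideal.Quotient.mk_surjective (lev φ₀ m x); rw [← hy]; rfl
    | succ n h ih =>
      intro x
      rw [← ih x, ← factor_lev φ₀ n x]
      exact (Ideal.Quotient.factor_comp_apply (le_pow (B := B) n.le_succ) (le_pow (B := B) h) _).symm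
  refine ⟨AdicCompletion.liftAlgHom _ f fun {m n} h => AlgHom.ext fun x => ?_, fun a => ?_⟩
  · show Ideal.Quotient.factor (Ideal.pow_le_pow_right h) (Ideal.Quotient.factor (Ideal.pow_le_pow_right n.le_succ) (lev φ₀ n x)) =
      Ideal.Quotient.factor (Ideal.pow_le_pow_right m.le_succ) (lev φ₀ m x)
    rw [← step h x]
    exact (Ideal.Quotient.factor_comp_apply _ _ _).trans (Ideal.Quotient.factor_comp_apply _ _ _).symm
  · rw [AdicCompletion.evalOneₐ_liftAlgHom]
    show Ideal.Quotient.factor (pow_one (maximalIdeal B)).le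
      (Ideal.Quotient.factor (Ideal.pow_le_pow_right (Nat.le_succ 1)) (lev φ₀ 1 a)) = φ₀ a
    have h1 := step (Nat.zero_le 1) a
    obtain ⟨y, hy⟩ := Ideal.Quotient.mk_surjective (φ₀ a)
    obtain ⟨z, hz⟩ := Ideal.Quotient.mk_surjective (lev φ₀ 1 a)
    have h0 : lev φ₀ 0 a = Ideal.Quotient.mk _ y := by
      show Ideal.quotientEquivAlgOfEq B (pow_one (maximalIdeal B)).symm (φ₀ a) = _
      rw [← hy]; rfl
    rw [← hz, h0, Ideal.Quotient.factor_mk, Ideal.Quotient.eq] at h1
    rw [← hz, ← hy, Ideal.Quotient.factor_mk, Ideal.Quotient.factor_mk, Ideal.Quotient.eq]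
    exact Ideal.pow_le_self one_ne_zero h1

theorem exists_quasiSection (B : Type u) [CommRing B] [IsDomain B] [IsDiscreteValuationRing B]
    (A : Type u) [CommRing A] [Algebra B A] [Algebra.FiniteType B A]
    (p : Ideal A) [p.IsPrime] (hp : p.comap (algebraMap B A) = maximalIdeal B)
    [Algebra.IsSmoothAt B p]
    (hres : Function.Surjective ((algebraMap A p.ResidueField).comp (algebraMap B A))) :
    ∃ (B' : Type u) (_ : CommRing B') (_ : IsDomain B') (_ : IsDiscreteValuationRing B') (ψ : A →+* B'),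
      Ideal.comap ψ (maximalIdeal B') = p ∧
      Function.Injective (ψ.comp (algebraMap B A)) ∧
      Ideal.map (ψ.comp (algebraMap B A)) (maximalIdeal B) = maximalIdeal B' ∧
      Function.Surjective ((residue B').comp (ψ.comp (algebraMap B A))) := by
  haveI : Algebra.FinitePresentation B A := Algebra.FinitePresentation.of_finiteType.1 inferInstance
  obtain ⟨g, hg, hsm⟩ := Algebra.IsSmoothAt.exists_notMem_smooth B p
  -- the rational point
  let α : B ⧸ maximalIdeal B →+* p.ResidueField := Ideal.Quotient.lift _ ((algebraMap A p.ResidueField).comp (algebraMap B A))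
    (fun b hb => by
      rw [← hp] at hb
      exact Ideal.algebraMap_residueField_eq_zero.2 hb)
  have hα : Function.Bijective α := by
    refine ⟨fun x y h => ?_, fun z => ?_⟩
    · letI := Ideal.Quotient.field (maximalIdeal B)
      exact α.injective h
    · obtain ⟨b, hb⟩ := hres z
      exact ⟨Ideal.Quotient.mk _ b, hb⟩
  let αe := RingEquiv.ofBijective α hα
  let φA : A →+* B ⧸ maximalIdeal B := αe.symm.toRingHom.comp (algebraMap A p.ResidueField)
  have hφA : ∀ a, φA a = 0 ↔ a ∈ p := fun a => by
    simp [φA]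
  have hgu : IsUnit (φA g) := by
    letI := Ideal.Quotient.field (maximalIdeal B)
    exact isUnit_iff_ne_zero.2 fun h => hg ((hφA g).1 h)
  let φg : Localization.Away g →+* B ⧸ maximalIdeal B := IsLocalization.Away.lift g hgu
  let φ₀ : Localization.Away g →ₐ[B] B ⧸ maximalIdeal B :=
    { φg with
      commutes' := fun b => by
        show φg (algebraMap B (Localization.Away g) b) = _
        rw [IsScalarTower.algebraMap_apply B A (Localization.Away g)]
        refine (IsLocalization.Away.lift_eq g hgu _).trans (αe.injective ?_)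
        simp [φA, αe, α] }
  haveI := hsm
  obtain ⟨ψg, hψg⟩ := exists_section φ₀
  obtain ⟨hd, hv⟩ := (Groth.Agent.S0549.result B).1 ⟨inferInstance, inferInstance⟩
  let B' := AdicCompletion (maximalIdeal B) B
  let ψ : A →+* B' := ψg.toRingHom.comp (algebraMap A (Localization.Away g))
  have hψ : ψ.comp (algebraMap B A) = algebraMap B B' := RingHom.ext fun b => by
    show ψg (algebraMap A (Localization.Away g) (algebraMap B A b)) = _
    rw [← IsScalarTower.algebraMap_apply, AlgHom.commutes]
  have hev : ∀ a, AdicCompletion.evalOneₐ (maximalIdeal B) (ψ a) = φA a := fun a =>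
    (hψg _).trans (IsLocalization.Away.lift_eq g hgu a)
  have hker : ∀ x : B', x ∈ maximalIdeal B' ↔ AdicCompletion.evalOneₐ (maximalIdeal B) x = 0 := fun x => by
    rw [AdicCompletion.maximalIdeal_eq_map,
      ← AdicCompletion.ker_evalOneₐ_eq_map _ (maximalIdeal B).fg_of_isNoetherianRing]
    exact RingHom.mem_ker
  refine ⟨B', inferInstance, hd, hv, ψ, ?_, ?_, ?_, ?_⟩
  · ext a
    rw [Ideal.mem_comap, hker, hev, hφA]
  · rw [hψ]
    exact AdicCompletion.of_injective (maximalIdeal B) B
  · rw [hψ, ← AdicCompletion.maximalIdeal_eq_map]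
  · intro z
    obtain ⟨x, rfl⟩ := IsLocalRing.residue_surjective z
    obtain ⟨b, hb⟩ := Ideal.Quotient.mk_surjective (AdicCompletion.evalOneₐ (maximalIdeal B) x)
    refine ⟨b, ?_⟩
    rw [RingHom.comp_apply, hψ, ← sub_eq_zero, ← map_sub, residue_eq_zero_iff, hker, map_sub, sub_eq_zero, ← hb,
      AlgHom.commutes]
    rfl

end Groth.Agent.QuasiSec
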